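import Groth.Prelude.Def_GSzMilK
import Mathlib.LinearAlgebra.Multilinear.Curry
import Mathlib.GroupTheory.Perm.Sign
import Mathlib.GroupTheory.Perm.Fin

/-!
# Basic identities in Milnor K-groups

Multilinearity of symbols, extensionality, the prepending operator `pre a : y ↦ {a}·y`,
anticommutativity, `{a,-a} = 0`, `{a,a} = {a,-1}`, maps out of `K F (n+1)` by recursion on the
first entry, and membership lemmas for subgroups generated by symbols.
-/

universe u v w

namespace Groth.Agent.MilKLib

open MilK

variable {F : Type u} [Field F] {n : ℕ}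

/-- Symbols as an integer-multilinear map. -/
noncomputable def symML (F : Type u) [Field F] (n : ℕ) :
    MultilinearMap ℤ (fun _ : Fin n => Additive Fˣ) (K F n) where
  toFun x := mk F n (PiTensorProduct.tprod ℤ x)
  map_update_add' m i x y := by rw [MultilinearMap.map_update_add, map_add]
  map_update_smul' m i c x := by rw [MultilinearMap.map_update_smul, map_zsmul]

theorem symML_apply (x : Fin n → Additive Fˣ) : symML F n x = symbol fun i => (x i).toMul :=
  mk_tprod x

theorem symML_ofMul (x : Fin n → Fˣ) : symML F n (fun i => Additive.ofMul (x i)) = symbol x :=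
  rfl

theorem update_ofMul (x : Fin n → Fˣ) (i : Fin n) (a : Fˣ) :
    (fun j => Additive.ofMul (Function.update x i a j)) =
      Function.update (fun j => Additive.ofMul (x j)) i (Additive.ofMul a) := by
  funext j
  rcases eq_or_ne j i with rfl | h <;> simp [*]

theorem symbol_update_mul (x : Fin n → Fˣ) (i : Fin n) (a b : Fˣ) :
    symbol (Function.update x i (a * b)) =
      symbol (Function.update x i a) + symbol (Function.update x i b) := by
  simp only [← symML_ofMul, update_ofMul, ofMul_mul]
  exact (symML F n).map_update_add _ _ _ _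

theorem symbol_eq_zero_of_eq_one (x : Fin n → Fˣ) {i : Fin n} (h : x i = 1) : symbol x = 0 := by
  rw [← symML_ofMul]
  exact (symML F n).map_coord_zero i (by simp [h])

theorem symbol_update_one (x : Fin n → Fˣ) (i : Fin n) : symbol (Function.update x i 1) = 0 :=
  symbol_eq_zero_of_eq_one _ (Function.update_self i 1 x)

/-- The dependence of a symbol on its `i`-th entry, as an additive map. -/
noncomputable def updateHom (x : Fin n → Fˣ) (i : Fin n) : Additive Fˣ →+ K F n :=
  AddMonoidHom.mk' (fun a => symbol (Function.update x i a.toMul))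
    (fun a b => symbol_update_mul x i a.toMul b.toMul)

theorem updateHom_apply (x : Fin n → Fˣ) (i : Fin n) (a : Fˣ) :
    updateHom x i (Additive.ofMul a) = symbol (Function.update x i a) := rfl

theorem symbol_update_inv (x : Fin n → Fˣ) (i : Fin n) (a : Fˣ) :
    symbol (Function.update x i a⁻¹) = -symbol (Function.update x i a) := by
  rw [← updateHom_apply, ofMul_inv, map_neg, updateHom_apply]

theorem symbol_update_zpow (x : Fin n → Fˣ) (i : Fin n) (a : Fˣ) (z : ℤ) :
    symbol (Function.update x i (a ^ z)) = z • symbol (Function.update x i a) := by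
  rw [← updateHom_apply, ofMul_zpow, map_zsmul, updateHom_apply]

/-- Two additive maps out of `K F n` agreeing on symbols are equal. -/
theorem hom_ext {M : Type w} [AddCommGroup M] {f g : K F n →+ M}
    (h : ∀ x : Fin n → Fˣ, f (symbol x) = g (symbol x)) : f = g := by
  ext y
  obtain ⟨t, rfl⟩ := mk_surjective F n y
  induction t using PiTensorProduct.induction_on with
  | smul_tprod z x => rw [map_zsmul, map_zsmul, map_zsmul, mk_tprod, h]
  | add s t hs ht => rw [map_add, map_add, map_add, hs, ht]

theorem mem_of_forall_symbol {S : AddSubgroup (K F n)} (h : ∀ x : Fin n → Fˣ, symbol x ∈ S)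
    (y : K F n) : y ∈ S := by
  obtain ⟨t, rfl⟩ := mk_surjective F n y
  induction t using PiTensorProduct.induction_on with
  | smul_tprod z x => rw [map_zsmul, mk_tprod]; exact S.zsmul_mem (h _) z
  | add s t hs ht => rw [map_add]; exact S.add_mem hs ht

theorem closure_symbols_eq_top :
    AddSubgroup.closure (Set.range (symbol : (Fin n → Fˣ) → K F n)) = ⊤ :=
  top_unique fun y _ =>
    mem_of_forall_symbol (fun x => AddSubgroup.subset_closure (Set.mem_range_self x)) y

theorem symbol_eq_zero_of_add_eq_one (x : Fin n → Fˣ) {i j : Fin n} (hij : i ≠ j)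
    (h : (x i : F) + (x j : F) = 1) : symbol x = 0 := by
  rcases lt_or_gt_of_ne hij with h' | h'
  · exact symbol_eq_zero_of_isSteinberg x ⟨i, j, h', h⟩
  · exact symbol_eq_zero_of_isSteinberg x ⟨j, i, h', (add_comm _ _).trans h⟩

theorem symbol_eq_zero_of_eq_neg (x : Fin n → Fˣ) {i j : Fin n} (hij : i ≠ j)
    (h : x j = -x i) : symbol x = 0 := by
  set a := x i with ha
  by_cases h1 : (a : F) = 1
  · exact symbol_eq_zero_of_eq_one x (i := i) (Units.ext h1)
  · have hb : (1 : F) - a ≠ 0 := sub_ne_zero.mpr (Ne.symm h1)
    have hc : (1 : F) - (a : F)⁻¹ ≠ 0 :=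
      sub_ne_zero.mpr fun e => h1 (inv_eq_one.mp e.symm)
    have hx : x = Function.update x j (Units.mk0 _ hb * (Units.mk0 _ hc)⁻¹) := by
      refine (Function.update_eq_self j x).symm.trans (congrArg _ ?_)
      rw [h]
      refine Units.ext ?_
      simp only [Units.val_neg, Units.val_mul, Units.val_inv_eq_inv_val, Units.val_mk0]
      field_simp [a.ne_zero]
      ring
    rw [hx, symbol_update_mul, symbol_update_inv]
    have e1 : symbol (Function.update x j (Units.mk0 _ hb)) = 0 := by
      refine symbol_eq_zero_of_add_eq_one _ hij ?_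
      rw [Function.update_of_ne hij, Function.update_self, ← ha]
      simp
    have e2 : symbol (Function.update x j (Units.mk0 _ hc)) = 0 := by
      have : Function.update x j (Units.mk0 _ hc) =
          Function.update (Function.update x j (Units.mk0 _ hc)) i (a⁻¹)⁻¹ := by
        rw [inv_inv]
        refine (Function.update_eq_self i _).symm.trans ?_
        rw [Function.update_of_ne hij]
      rw [this, symbol_update_inv, neg_eq_zero]
      refine symbol_eq_zero_of_add_eq_one _ hij ?_
      rw [Function.update_self, Function.update_of_ne hij.symm, Function.update_self]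
      simp
    rw [e1, e2, neg_zero, add_zero]

/-- Anticommutativity for two entries. -/
theorem symbol_comp_swap (x : Fin n → Fˣ) {i j : Fin n} (hij : i ≠ j) :
    symbol (x ∘ Equiv.swap i j) = -symbol x := by
  let f : Fˣ → Fˣ → K F n := fun a b => symbol (Function.update (Function.update x i a) j b)
  have f1 : ∀ a b b', f a (b * b') = f a b + f a b' := fun a b b' => symbol_update_mul _ _ _ _
  have f2 : ∀ a a' b, f (a * a') b = f a b + f a' b := by
    intro a a' b
    simp only [f, Function.update_comm hij]
    exact symbol_update_mul _ _ _ _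
  have f0 : ∀ a, f a (-a) = 0 := fun a =>
    symbol_eq_zero_of_eq_neg _ hij (by
      rw [Function.update_self, Function.update_of_ne hij, Function.update_self])
  have key : f (x i) (x j) + f (x j) (x i) = 0 := by
    have h := f0 (x i * x j)
    rw [f2, show -(x i * x j) = (-x i) * x j from (neg_mul _ _).symm, f1, f0, zero_add,
      show (-x i) * x j = x i * (-x j) by rw [neg_mul, mul_neg], f1, f0, add_zero] at h
    exact h
  have hx : f (x i) (x j) = symbol x := by simp only [f, Function.update_eq_self]
  have hs : f (x j) (x i) = symbol (x ∘ Equiv.swap i j) := by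
    simp only [f]
    congr 1
    funext k
    rcases eq_or_ne k j with rfl | hkj
    · simp
    rcases eq_or_ne k i with rfl | hki
    · simp [Function.update_of_ne hkj]
    · simp [Function.update_of_ne hkj, Function.update_of_ne hki,
        Equiv.swap_apply_of_ne_of_ne hki hkj]
  rw [← hx, ← hs]
  exact eq_neg_of_add_eq_zero_right key

/-- Permuting the entries multiplies a symbol by the sign. -/
theorem symbol_comp_perm (x : Fin n → Fˣ) (σ : Equiv.Perm (Fin n)) :
    symbol (x ∘ σ) = (Equiv.Perm.sign σ : ℤ) • symbol x := by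
  induction σ using Equiv.Perm.swap_induction_on generalizing x with
  | one => simp
  | swap_mul σ i j hij ih =>
    rw [Equiv.Perm.coe_mul, ← Function.comp_assoc, ih, symbol_comp_swap x hij,
      map_mul, Equiv.Perm.sign_swap hij]
    simp

theorem mem_comp_perm_iff {S : AddSubgroup (K F n)} (x : Fin n → Fˣ) (σ : Equiv.Perm (Fin n)) :
    symbol (x ∘ σ) ∈ S ↔ symbol x ∈ S := by
  rw [symbol_comp_perm]
  rcases Int.units_eq_one_or (Equiv.Perm.sign σ) with h | h <;> simp [h]

/-- `{a}·` as an additive map, additive in `a` too. -/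
noncomputable def preHom (F : Type u) [Field F] (n : ℕ) :
    Additive Fˣ →+ K F n →+ K F (n + 1) :=
  AddMonoidHom.mk'
    (fun a => lift ((symML F (n + 1)).curryLeft a) fun x hx => by
      obtain ⟨i, j, hij, h⟩ := hx
      rw [MultilinearMap.curryLeft_apply, symML_apply]
      refine symbol_eq_zero_of_isSteinberg _ ⟨i.succ, j.succ, Fin.succ_lt_succ_iff.mpr hij, ?_⟩
      simpa using h)
    fun a b => hom_ext fun x => by
      simp only [lift_symbol, map_add, MultilinearMap.add_apply, AddMonoidHom.add_apply]

/-- `pre a y = {a}·y`. -/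
noncomputable def pre (a : Fˣ) : K F n →+ K F (n + 1) := preHom F n (Additive.ofMul a)

@[simp]
theorem pre_symbol (a : Fˣ) (x : Fin n → Fˣ) : pre a (symbol x) = symbol (Fin.cons a x) := by
  rw [pre, preHom, AddMonoidHom.mk'_apply, lift_symbol, MultilinearMap.curryLeft_apply,
    symML_apply]
  congr 1

theorem pre_mul (a b : Fˣ) (y : K F n) : pre (a * b) y = pre a y + pre b y := by
  simp only [pre, ofMul_mul, map_add, AddMonoidHom.add_apply]

theorem pre_one (y : K F n) : pre (1 : Fˣ) y = 0 := by
  simp only [pre, ofMul_one, map_zero, AddMonoidHom.zero_apply]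

theorem pre_inv (a : Fˣ) (y : K F n) : pre a⁻¹ y = -pre a y := by
  simp only [pre, ofMul_inv, map_neg, AddMonoidHom.neg_apply]

theorem pre_div (a b : Fˣ) (y : K F n) : pre (a / b) y = pre a y - pre b y := by
  rw [div_eq_mul_inv, pre_mul, pre_inv, sub_eq_add_neg]

theorem pre_zpow (a : Fˣ) (z : ℤ) (y : K F n) : pre (a ^ z) y = z • pre a y := by
  simp only [pre, ofMul_zpow, map_zsmul, AddMonoidHom.coe_smul, Pi.smul_apply]

theorem pre_pow (a : Fˣ) (z : ℕ) (y : K F n) : pre (a ^ z) y = z • pre a y := by
  simp only [pre, ofMul_pow, map_nsmul, AddMonoidHom.coe_smul, Pi.smul_apply]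

theorem symbol_cons_tail (x : Fin (n + 1) → Fˣ) :
    symbol x = pre (x 0) (symbol (Fin.tail x)) := by
  rw [pre_symbol, Fin.cons_self_tail]

/-- `K F (n+1)` is generated by the elements `{a}·y`. -/
theorem mem_of_forall_pre {S : AddSubgroup (K F (n + 1))}
    (h : ∀ (a : Fˣ) (y : K F n), pre a y ∈ S) (z : K F (n + 1)) : z ∈ S :=
  mem_of_forall_symbol (fun x => symbol_cons_tail x ▸ h _ _) z

theorem hom_ext_pre {M : Type w} [AddCommGroup M] {f g : K F (n + 1) →+ M}
    (h : ∀ (a : Fˣ) (y : K F n), f (pre a y) = g (pre a y)) : f = g :=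
  hom_ext fun x => by rw [symbol_cons_tail x, h]

theorem symbol_vec1 (a : Fˣ) : (symbol ![a] : K F 1) = pre a (symbol (![] : Fin 0 → Fˣ)) := by
  rw [pre_symbol]; rfl

theorem symbol_vec2 (a b : Fˣ) :
    (symbol ![a, b] : K F 2) = pre a (pre b (symbol (![] : Fin 0 → Fˣ))) := by
  rw [pre_symbol, pre_symbol]; rfl

theorem symbol_empty (x : Fin 0 → Fˣ) : symbol x = symbol (![] : Fin 0 → Fˣ) :=
  congrArg symbol (Subsingleton.elim _ _)

theorem pre_pre_steinberg {a b : Fˣ} (h : (a : F) + b = 1) (y : K F n) :
    pre a (pre b y) = 0 := by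
  have : (pre a).comp (pre b) = (0 : K F n →+ K F (n + 1 + 1)) := hom_ext fun x => by
    simp only [AddMonoidHom.comp_apply, pre_symbol, AddMonoidHom.zero_apply]
    exact symbol_eq_zero_of_add_eq_one _ (i := 0) (j := 1) (by simp) (by simpa using h)
  exact DFunLike.congr_fun this y

theorem pre_pre_neg (a : Fˣ) (y : K F n) : pre a (pre (-a) y) = 0 := by
  have : (pre a).comp (pre (-a)) = (0 : K F n →+ K F (n + 1 + 1)) := hom_ext fun x => by
    simp only [AddMonoidHom.comp_apply, pre_symbol, AddMonoidHom.zero_apply]
    exact symbol_eq_zero_of_eq_neg _ (i := 0) (j := 1) (by simp) (by simp)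
  exact DFunLike.congr_fun this y

theorem pre_self (a : Fˣ) (y : K F n) : pre a (pre a y) = pre a (pre (-1) y) := by
  rw [← sub_eq_zero, ← map_sub, ← pre_div,
    show a / (-1 : Fˣ) = -a by rw [div_eq_iff_eq_mul]; simp, pre_pre_neg]

theorem pre_comm (a b : Fˣ) (y : K F n) : pre a (pre b y) = -pre b (pre a y) := by
  have h := pre_pre_neg (a * b) y
  rw [pre_mul, show -(a * b) = (-a) * b from (neg_mul _ _).symm] at h
  nth_rw 2 [show (-a) * b = (-b) * a by rw [neg_mul, neg_mul, mul_comm]] at h
  simp only [pre_mul, map_add, pre_pre_neg, zero_add] at h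
  exact eq_neg_of_add_eq_zero_left h

/-- A map out of `K F (n+1)` given by an additive family of maps out of `K F n` indexed by the
first entry. -/
noncomputable def consLift {M : Type w} [AddCommGroup M] (φ : Additive Fˣ →+ K F n →+ M)
    (hφ : ∀ (a : Fˣ) (x : Fin n → Fˣ) (j : Fin n), (a : F) + (x j : F) = 1 →
      φ (Additive.ofMul a) (symbol x) = 0) : K F (n + 1) →+ M :=
  lift
    (LinearMap.uncurryLeft (M := fun _ : Fin (n + 1) => Additive Fˣ)
      (AddMonoidHom.mk' (fun a => (φ a).toIntLinearMap.compMultilinearMap (symML F n))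
        fun a b => MultilinearMap.ext fun x => by simp).toIntLinearMap)
    fun x hx => by
      obtain ⟨i, j, hij, h⟩ := hx
      rw [LinearMap.uncurryLeft_apply]
      show φ (Additive.ofMul (x 0)) (symbol fun k => x k.succ) = 0
      rcases Fin.eq_zero_or_eq_succ i with rfl | ⟨i', rfl⟩
      · obtain ⟨j', rfl⟩ := (Fin.eq_zero_or_eq_succ j).resolve_left (Fin.ne_of_gt hij)
        exact hφ _ _ j' h
      · obtain ⟨j', rfl⟩ := (Fin.eq_zero_or_eq_succ j).resolve_left
          (fun e => by subst e; exact absurd hij (Fin.not_lt_zero _))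
        rw [symbol_eq_zero_of_isSteinberg (fun k => x k.succ)
          ⟨i', j', Fin.succ_lt_succ_iff.mp hij, h⟩, map_zero]

@[simp]
theorem consLift_pre {M : Type w} [AddCommGroup M] (φ : Additive Fˣ →+ K F n →+ M) (hφ)
    (a : Fˣ) (y : K F n) : consLift φ hφ (pre a y) = φ (Additive.ofMul a) y := by
  have : (consLift φ hφ).comp (pre a) = φ (Additive.ofMul a) := hom_ext fun x => by
    rw [AddMonoidHom.comp_apply, pre_symbol, consLift, lift_symbol, LinearMap.uncurryLeft_apply]
    show φ _ (symbol _) = _
    simp
  exact DFunLike.congr_fun this y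

theorem map_pre {E : Type v} [Field E] (φ : F →+* E) (a : Fˣ) (y : K F n) :
    MilK.map φ (n + 1) (pre a y) = pre (Units.map (φ : F →* E) a) (MilK.map φ n y) := by
  have : (MilK.map φ (n + 1)).comp (pre a) =
      (pre (Units.map (φ : F →* E) a)).comp (MilK.map φ n) := hom_ext fun x => by
    simp only [AddMonoidHom.comp_apply, pre_symbol, map_symbol]
    congr 1
    funext i
    refine Fin.cases ?_ (fun j => ?_) i <;> simp
  exact DFunLike.congr_fun this y

theorem map_map {E : Type v} [Field E] {G : Type w} [Field G] (φ : F →+* E) (ψ : E →+* G)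
    (y : K F n) : MilK.map ψ n (MilK.map φ n y) = MilK.map (ψ.comp φ) n y := by
  have : (MilK.map ψ n).comp (MilK.map φ n) = MilK.map (ψ.comp φ) n := hom_ext fun x => by
    simp only [AddMonoidHom.comp_apply, map_symbol]
    congr 1
  exact DFunLike.congr_fun this y

theorem map_id' (y : K F n) : MilK.map (RingHom.id F) n y = y := by
  have : MilK.map (RingHom.id F) n = AddMonoidHom.id _ := hom_ext fun x => by
    simp only [map_symbol, AddMonoidHom.id_apply]
    congr 1
  exact DFunLike.congr_fun this y

/-- Functoriality along a bijective ring homomorphism is injective. -/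
theorem map_injective_of_bijective {E : Type v} [Field E] (φ : F →+* E)
    (h : Function.Bijective φ) : Function.Injective (MilK.map φ n) := by
  intro y y' hy
  have h' : ∀ z : K F n,
      MilK.map (RingEquiv.ofBijective φ h).symm.toRingHom n (MilK.map φ n z) = z := by
    intro z
    rw [map_map, show (RingEquiv.ofBijective φ h).symm.toRingHom.comp φ = RingHom.id F from
      RingHom.ext fun t => (RingEquiv.ofBijective φ h).symm_apply_apply t, map_id']
  rw [← h' y, ← h' y', hy]

theorem mul_one_left (a : Fˣ) (y : K F n) :
    MilK.cast F (Nat.add_comm 1 n) (MilK.mul F 1 n (symbol ![a]) y) = pre a y := by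
  have : (MilK.cast F (Nat.add_comm 1 n)).toAddMonoidHom.comp (MilK.mul F 1 n (symbol ![a])) =
      pre a := hom_ext fun x => by
    simp only [AddMonoidHom.comp_apply, AddEquiv.coe_toAddMonoidHom, mul_symbol_symbol,
      cast_symbol, pre_symbol]
    congr 1
    funext i
    simp only [Function.comp_apply]
    refine Fin.cases ?_ (fun j => ?_) i
    · rw [show Fin.cast (Nat.add_comm 1 n).symm (0 : Fin (n + 1)) = Fin.castAdd n (0 : Fin 1)
        from Fin.ext rfl, Fin.append_left]
      rfl
    · rw [show Fin.cast (Nat.add_comm 1 n).symm j.succ = Fin.natAdd 1 j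
        from Fin.ext (by simp [Nat.add_comm]), Fin.append_right, Fin.cons_succ]
  exact DFunLike.congr_fun this y

/-- If all symbols with entries in `T` lie in `S`, so do all symbols with entries in the subgroup
generated by `T`. -/
theorem symbol_mem_of_closure {S : AddSubgroup (K F n)} {T : Set Fˣ}
    (h : ∀ x : Fin n → Fˣ, (∀ j, x j ∈ T) → symbol x ∈ S) (x : Fin n → Fˣ)
    (hx : ∀ j, x j ∈ Subgroup.closure T) : symbol x ∈ S := by
  suffices H : ∀ (s : Finset (Fin n)) (x : Fin n → Fˣ), (∀ j ∈ s, x j ∈ Subgroup.closure T) →
      (∀ j ∉ s, x j ∈ T) → symbol x ∈ S from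
    H Finset.univ x (fun j _ => hx j) (fun j hj => absurd (Finset.mem_univ j) hj)
  intro s
  induction s using Finset.induction with
  | empty => exact fun x _ h2 => h x fun j => h2 j (Finset.notMem_empty j)
  | insert i s hi ih =>
    intro x h1 h2
    suffices ∀ a, a ∈ Subgroup.closure T → symbol (Function.update x i a) ∈ S by
      simpa using this (x i) (h1 i (Finset.mem_insert_self i s))
    intro a ha
    induction ha using Subgroup.closure_induction with
    | mem a ha =>
      refine ih _ (fun j hj => ?_) (fun j hj => ?_)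
      · have : j ≠ i := fun e => hi (e ▸ hj)
        rw [Function.update_of_ne this]
        exact h1 j (Finset.mem_insert_of_mem hj)
      · rcases eq_or_ne j i with rfl | hji
        · rw [Function.update_self]; exact ha
        · rw [Function.update_of_ne hji]
          exact h2 j fun e => (Finset.mem_insert.mp e).elim hji hj
    | one => rw [symbol_update_one]; exact S.zero_mem
    | mul a b _ _ pa pb => rw [symbol_update_mul]; exact S.add_mem pa pb
    | inv a _ pa => rw [symbol_update_inv]; exact S.neg_mem pa

/-- A multilinear map which kills every tuple with an entry in the kernel of a homomorphism takes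
equal values on tuples with equal images. -/
theorem eq_of_map_eq {G : Type v} {H : Type w} [CommGroup G] [CommGroup H] {M : Type*}
    [AddCommGroup M] (r : G →* H) (g : MultilinearMap ℤ (fun _ : Fin n => Additive G) M)
    (hg : ∀ (x : Fin n → Additive G) (j : Fin n), r (x j).toMul = 1 → g x = 0)
    (x y : Fin n → Additive G) (h : ∀ j, r (x j).toMul = r (y j).toMul) : g x = g y := by
  suffices H' : ∀ s : Finset (Fin n), g (s.piecewise x y) = g y by
    simpa using H' Finset.univ
  intro s
  induction s using Finset.induction with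
  | empty => simp
  | insert i s hi ih =>
    rw [Finset.piecewise_insert, ← ih]
    set z := s.piecewise x y
    have hz : z i = y i := Finset.piecewise_eq_of_notMem _ _ _ hi
    rw [show x i = y i + (x i - y i) by abel, g.map_update_add, ← hz, Function.update_eq_self,
      add_eq_left]
    refine hg _ i ?_
    rw [Function.update_self, toMul_sub, map_div, h i, hz, div_self']

end Groth.Agent.MilKLib
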