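import Groth.Agent.MilK.Basic
import Mathlib.RingTheory.DiscreteValuationRing.Basic
import Mathlib.RingTheory.LocalRing.ResidueField.Basic

/-!
# Specialization maps and tame symbols on Milnor K-groups of a discretely valued field

Existence, uniqueness and the recursion formula for `MilK.IsTameSymbol` and `MilK.IsSpecMap`.
-/

universe u v w

namespace Groth.Agent.MilKLib

open MilK

variable {A : Type u} [CommRing A] [IsDomain A] [IsDiscreteValuationRing A]
  {L : Type v} [Field L] [Algebra A L] [IsFractionRing A L]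
  {ϖ : A} (hϖ : Irreducible ϖ) {n : ℕ}

local notation "κ" => IsLocalRing.ResidueField A

omit [IsDiscreteValuationRing A] [IsDomain A] in
theorem unitToFrac_val (u : Aˣ) : (unitToFrac A L u : L) = algebraMap A L u := rfl

theorem unitResidue_val (u : Aˣ) : (unitResidue A u : κ) = IsLocalRing.residue A u := rfl

/-- `(i, u) ↦ ϖ^i u`. -/
noncomputable def splitHom (L : Type v) [Field L] [Algebra A L] [IsFractionRing A L] :
    Multiplicative ℤ × Aˣ →* Lˣ :=
  (zpowersHom Lˣ (unitFrac A L ϖ hϖ.ne_zero)).coprod (unitToFrac A L)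

theorem splitHom_apply (i : Multiplicative ℤ) (u : Aˣ) :
    splitHom hϖ L (i, u) = unitFrac A L ϖ hϖ.ne_zero ^ i.toAdd * unitToFrac A L u := rfl

theorem splitHom_bijective : Function.Bijective (splitHom hϖ L) := by
  constructor
  · rw [injective_iff_map_eq_one]
    rintro ⟨i, u⟩ h
    rw [splitHom_apply] at h
    have h' := congrArg (fun x : Lˣ => (x : L)) h
    simp only [Units.val_mul, Units.val_zpow_eq_zpow_val, coe_unitFrac, unitToFrac_val,
      Units.val_one] at h'
    obtain ⟨k, hk | hk⟩ := i.toAdd.eq_nat_or_neg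
    · rw [hk, zpow_natCast, ← map_pow, ← map_mul,
        ← map_one (algebraMap A L)] at h'
      have e := IsFractionRing.injective A L h'
      have hk0 : k = 0 := by
        by_contra hne
        exact hϖ.not_isUnit ((isUnit_pow_iff hne).mp (IsUnit.of_mul_eq_one _ e))
      subst hk0
      rw [pow_zero, one_mul] at e
      simp only [Prod.mk_eq_one]
      refine ⟨?_, Units.ext e⟩
      apply Multiplicative.toAdd.injective
      simpa using hk
    · rw [hk, zpow_neg, zpow_natCast, inv_mul_eq_iff_eq_mul₀ (pow_ne_zero _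
        (mt (IsFractionRing.to_map_eq_zero_iff (K := L)).mp hϖ.ne_zero)), mul_one, ← map_pow] at h'
      have e := IsFractionRing.injective A L h'
      have hk0 : k = 0 := by
        by_contra hne
        exact hϖ.not_isUnit ((isUnit_pow_iff hne).mp (e ▸ u.isUnit))
      subst hk0
      rw [pow_zero] at e
      simp only [Prod.mk_eq_one]
      refine ⟨?_, Units.ext e⟩
      apply Multiplicative.toAdd.injective
      simpa using hk
  · intro x
    obtain ⟨a, b, hb, hx⟩ := IsFractionRing.div_surjective (A := A) (x : L)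
    have hb0 : b ≠ 0 := nonZeroDivisors.ne_zero hb
    have ha0 : a ≠ 0 := by
      rintro rfl
      rw [map_zero, zero_div] at hx
      exact x.ne_zero hx.symm
    obtain ⟨p, u, hu⟩ := IsDiscreteValuationRing.eq_unit_mul_pow_irreducible ha0 hϖ
    obtain ⟨q, w, hw⟩ := IsDiscreteValuationRing.eq_unit_mul_pow_irreducible hb0 hϖ
    refine ⟨(Multiplicative.ofAdd ((p : ℤ) - q), u * w⁻¹), Units.ext ?_⟩
    rw [splitHom_apply, toAdd_ofAdd, map_mul, map_inv, ← hx, hu, hw]
    simp only [Units.val_mul, Units.val_zpow_eq_zpow_val, Units.val_inv_eq_inv_val, coe_unitFrac,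
      unitToFrac_val, map_mul, map_pow]
    rw [zpow_sub₀ (mt (IsFractionRing.to_map_eq_zero_iff (K := L)).mp hϖ.ne_zero), zpow_natCast,
      zpow_natCast]
    field_simp

/-- Lˣ ≅ ℤ × Aˣ. -/
noncomputable def splitEquiv (L : Type v) [Field L] [Algebra A L] [IsFractionRing A L] :
    Multiplicative ℤ × Aˣ ≃* Lˣ :=
  MulEquiv.ofBijective _ (splitHom_bijective (L := L) hϖ)

/-- The valuation. -/
noncomputable def ord (L : Type v) [Field L] [Algebra A L] [IsFractionRing A L] :
    Additive Lˣ →+ ℤ :=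
  AddMonoidHom.mk' (fun x => ((splitEquiv hϖ L).symm x.toMul).1.toAdd)
    (fun x y => by simp)

/-- The residue of `x / ϖ^(ord x)`. -/
noncomputable def resU (L : Type v) [Field L] [Algebra A L] [IsFractionRing A L] : Lˣ →* κˣ :=
  (unitResidue A).comp ((MonoidHom.snd _ _).comp (splitEquiv hϖ L).symm.toMonoidHom)

/-- The sign-corrected inverse residue `(-1)^(ord x) / res x` which occurs in the recursion. -/
noncomputable def epsU (L : Type v) [Field L] [Algebra A L] [IsFractionRing A L] : Lˣ →* κˣ where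
  toFun x := (-1) ^ ord hϖ L (Additive.ofMul x) * (resU hϖ L x)⁻¹
  map_one' := by simp
  map_mul' x y := by
    rw [ofMul_mul, map_add, map_mul, zpow_add, mul_inv]
    exact mul_mul_mul_comm _ _ _ _

theorem exists_split (x : Lˣ) :
    ∃ (i : ℤ) (u : Aˣ), x = unitFrac A L ϖ hϖ.ne_zero ^ i * unitToFrac A L u := by
  obtain ⟨⟨i, u⟩, rfl⟩ := (splitHom_bijective (L := L) hϖ).2 x
  exact ⟨i.toAdd, u, rfl⟩

theorem split_symm (i : ℤ) (u : Aˣ) :
    (splitEquiv hϖ L).symm (unitFrac A L ϖ hϖ.ne_zero ^ i * unitToFrac A L u) =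
      (Multiplicative.ofAdd i, u) :=
  (MulEquiv.symm_apply_eq _).mpr rfl

@[simp]
theorem ord_split (i : ℤ) (u : Aˣ) :
    ord hϖ L (Additive.ofMul (unitFrac A L ϖ hϖ.ne_zero ^ i * unitToFrac A L u)) = i := by
  show ((splitEquiv hϖ L).symm _).1.toAdd = i
  rw [toMul_ofMul, split_symm]; rfl

@[simp]
theorem resU_split (i : ℤ) (u : Aˣ) :
    resU hϖ L (unitFrac A L ϖ hϖ.ne_zero ^ i * unitToFrac A L u) = unitResidue A u := by
  show unitResidue A ((splitEquiv hϖ L).symm _).2 = _
  rw [split_symm]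

theorem epsU_apply (x : Lˣ) :
    epsU hϖ L x = (-1) ^ ord hϖ L (Additive.ofMul x) * (resU hϖ L x)⁻¹ := rfl

@[simp]
theorem ord_unit (u : Aˣ) : ord hϖ L (Additive.ofMul (unitToFrac A L u)) = 0 := by
  simpa using ord_split (L := L) hϖ 0 u

@[simp]
theorem resU_unit (u : Aˣ) : resU hϖ L (unitToFrac A L u) = unitResidue A u := by
  simpa using resU_split (L := L) hϖ 0 u

@[simp]
theorem epsU_unit (u : Aˣ) : epsU hϖ L (unitToFrac A L u) = (unitResidue A u)⁻¹ := by
  simp [epsU_apply]

@[simp]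
theorem ord_unif : ord hϖ L (Additive.ofMul (unitFrac A L ϖ hϖ.ne_zero)) = 1 := by
  simpa using ord_split (L := L) hϖ 1 1

@[simp]
theorem resU_unif : resU hϖ L (unitFrac A L ϖ hϖ.ne_zero) = 1 := by
  simpa using resU_split (L := L) hϖ 1 1

@[simp]
theorem epsU_unif : epsU hϖ L (unitFrac A L ϖ hϖ.ne_zero) = -1 := by
  simp [epsU_apply]

theorem residue_pow_succ_mul (h : Irreducible ϖ) (k : ℕ) (a : A) :
    IsLocalRing.residue A (ϖ ^ (k + 1) * a) = 0 := by
  rw [map_mul, map_pow, (IsLocalRing.residue_eq_zero_iff ϖ).mpr h.not_isUnit, zero_pow (by omega),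
    zero_mul]

/-- The possible shapes of a pair `a + b = 1`. -/
theorem steinberg_cases {a b : Lˣ} (h : (a : L) + b = 1) :
    (0 < ord hϖ L (Additive.ofMul a) ∧ ord hϖ L (Additive.ofMul b) = 0 ∧ resU hϖ L b = 1) ∨
    (0 < ord hϖ L (Additive.ofMul b) ∧ ord hϖ L (Additive.ofMul a) = 0 ∧ resU hϖ L a = 1) ∨
    (ord hϖ L (Additive.ofMul a) = 0 ∧ ord hϖ L (Additive.ofMul b) = 0 ∧
      (resU hϖ L a : κ) + resU hϖ L b = 1) ∨
    (ord hϖ L (Additive.ofMul b) = ord hϖ L (Additive.ofMul a) ∧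
      resU hϖ L b = -resU hϖ L a) := by
  have key : ∀ {a b : Lˣ}, (a : L) + b = 1 → 0 < ord hϖ L (Additive.ofMul a) →
      ord hϖ L (Additive.ofMul b) = 0 ∧ resU hϖ L b = 1 := by
    intro a b h ha
    obtain ⟨i, u, rfl⟩ := exists_split hϖ a
    rw [ord_split] at ha
    obtain ⟨k, rfl⟩ : ∃ k : ℕ, i = ((k + 1 : ℕ) : ℤ) := ⟨i.toNat - 1, by omega⟩
    have hr : IsLocalRing.residue A (1 - ϖ ^ (k + 1) * u) = 1 := by
      rw [map_sub, residue_pow_succ_mul hϖ, map_one, sub_zero]
    have hu : IsUnit (1 - ϖ ^ (k + 1) * (u : A)) := by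
      by_contra hn
      rw [(IsLocalRing.residue_eq_zero_iff _).mpr hn] at hr
      exact zero_ne_one hr
    have hb : b = unitToFrac A L hu.unit := by
      refine Units.ext ?_
      rw [unitToFrac_val, IsUnit.unit_spec, map_sub, map_one, map_mul, map_pow,
        eq_sub_iff_add_eq', ← h]
      simp only [Units.val_mul, Units.val_pow_eq_pow_val, coe_unitFrac, unitToFrac_val,
        zpow_natCast]
    subst hb
    exact ⟨ord_unit hϖ _, Units.ext (by rw [resU_unit, unitResidue_val, IsUnit.unit_spec, hr,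
      Units.val_one])⟩
  by_cases ha : 0 < ord hϖ L (Additive.ofMul a)
  · exact .inl ⟨ha, key h ha⟩
  by_cases hb : 0 < ord hϖ L (Additive.ofMul b)
  · exact .inr (.inl ⟨hb, key ((add_comm _ _).trans h) hb⟩)
  refine .inr (.inr ?_)
  obtain ⟨i, u, rfl⟩ := exists_split hϖ a
  obtain ⟨j, w, rfl⟩ := exists_split hϖ b
  simp only [ord_split, resU_split] at ha hb ⊢
  obtain ⟨p, rfl⟩ : ∃ p : ℕ, i = -(p : ℤ) := ⟨(-i).toNat, by omega⟩
  obtain ⟨q, rfl⟩ : ∃ q : ℕ, j = -(q : ℤ) := ⟨(-j).toNat, by omega⟩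
  have hA : ϖ ^ q * (u : A) + ϖ ^ p * w = ϖ ^ (p + q) := by
    apply IsFractionRing.injective A L
    simp only [Units.val_mul, Units.val_inv_eq_inv_val, Units.val_pow_eq_pow_val, coe_unitFrac,
      unitToFrac_val, zpow_neg, zpow_natCast] at h
    simp only [map_add, map_mul, map_pow]
    have h0 : (algebraMap A L ϖ) ≠ 0 := mt (IsFractionRing.to_map_eq_zero_iff (K := L)).mp hϖ.ne_zero
    field_simp at h
    rw [pow_add]
    linear_combination h
  rcases Nat.lt_trichotomy p q with hlt | rfl | hlt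
  · exfalso
    obtain ⟨k, rfl⟩ : ∃ k, q = p + (k + 1) := ⟨q - p - 1, by omega⟩
    have : (w : A) = ϖ ^ (k + 1) * (ϖ ^ p - u) := by
      apply mul_left_cancel₀ (pow_ne_zero p hϖ.ne_zero)
      rw [show p + (p + (k + 1)) = p + (k + 1) + p by omega] at hA
      simp only [pow_add] at hA ⊢
      linear_combination hA
    have hw := congrArg (IsLocalRing.residue A) this
    rw [residue_pow_succ_mul hϖ, IsLocalRing.residue_eq_zero_iff] at hw
    exact hw w.isUnit
  · rcases Nat.eq_zero_or_pos p with rfl | hp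
    · refine .inl ⟨by simp, by simp, ?_⟩
      simp only [add_zero, pow_zero, one_mul] at hA
      rw [unitResidue_val, unitResidue_val, ← map_add, hA, map_one]
    · refine .inr ⟨rfl, Units.ext ?_⟩
      obtain ⟨k, rfl⟩ : ∃ k, p = k + 1 := ⟨p - 1, by omega⟩
      have : (w : A) + u = ϖ ^ (k + 1) * 1 := by
        apply mul_left_cancel₀ (pow_ne_zero (k + 1) hϖ.ne_zero)
        rw [pow_add ϖ (k + 1) (k + 1)] at hA
        linear_combination hA
      have hw := congrArg (IsLocalRing.residue A) this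
      rw [residue_pow_succ_mul hϖ, map_add] at hw
      rw [Units.val_neg, unitResidue_val, unitResidue_val]
      exact eq_neg_of_add_eq_zero_left hw
  · exfalso
    obtain ⟨k, rfl⟩ : ∃ k, p = q + (k + 1) := ⟨p - q - 1, by omega⟩
    have : (u : A) = ϖ ^ (k + 1) * (ϖ ^ q - w) := by
      apply mul_left_cancel₀ (pow_ne_zero q hϖ.ne_zero)
      simp only [pow_add] at hA ⊢
      linear_combination hA
    have hw := congrArg (IsLocalRing.residue A) this
    rw [residue_pow_succ_mul hϖ, IsLocalRing.residue_eq_zero_iff] at hw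
    exact hw u.isUnit

/-- The specialization map attached to `ϖ`. -/
noncomputable def spec (L : Type v) [Field L] [Algebra A L] [IsFractionRing A L] (n : ℕ) :
    K L n →+ K κ n :=
  lift ((symML κ n).compLinearMap fun _ => (MonoidHom.toAdditive (resU hϖ L)).toIntLinearMap)
    fun x hx => by
      obtain ⟨i, j, hij, h⟩ := hx
      rw [MultilinearMap.compLinearMap_apply, symML_apply]
      show symbol (fun k => resU hϖ L (x k)) = 0
      rcases steinberg_cases hϖ h with ⟨_, _, hr⟩ | ⟨_, _, hr⟩ | ⟨_, _, hr⟩ | ⟨_, hr⟩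
      · exact symbol_eq_zero_of_eq_one _ hr
      · exact symbol_eq_zero_of_eq_one _ hr
      · exact symbol_eq_zero_of_add_eq_one _ hij.ne hr
      · exact symbol_eq_zero_of_eq_neg _ hij.ne hr

@[simp]
theorem spec_symbol (x : Fin n → Lˣ) :
    spec hϖ L n (symbol x) = symbol fun i => resU hϖ L (x i) := by
  rw [spec, lift_symbol, MultilinearMap.compLinearMap_apply, symML_apply]; rfl

theorem spec_pre (a : Lˣ) (y : K L n) :
    spec hϖ L (n + 1) (pre a y) = pre (resU hϖ L a) (spec hϖ L n y) := by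
  have : (spec hϖ L (n + 1)).comp (pre a) = (pre (resU hϖ L a)).comp (spec hϖ L n) :=
    hom_ext fun x => by
      simp only [AddMonoidHom.comp_apply, pre_symbol, spec_symbol]
      congr 1
      funext i
      refine Fin.cases ?_ (fun j => ?_) i <;> simp
  exact DFunLike.congr_fun this y

theorem isSpecMap_spec : IsSpecMap A L ϖ hϖ n (spec hϖ L n) := fun e u => by simp

theorem eq_spec {s : K L n →+ K κ n} (hs : IsSpecMap A L ϖ hϖ n s) : s = spec hϖ L n :=
  hom_ext fun x => by
    choose e u h using fun i => exists_split hϖ (x i)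
    obtain rfl : x = fun i => unitFrac A L ϖ hϖ.ne_zero ^ e i * unitToFrac A L (u i) := funext h
    rw [hs e u, isSpecMap_spec hϖ e u]

/-- The sum of the two maps which enter the recursion of the tame symbol. -/
noncomputable def tamePhi (d : K L (n + 1) →+ K κ n) :
    Additive Lˣ →+ K L (n + 1) →+ K κ (n + 1) :=
  AddMonoidHom.mk'
    (fun a => ord hϖ L a • spec hϖ L (n + 1) + (pre (epsU hϖ L a.toMul)).comp d)
    fun a b => AddMonoidHom.ext fun y => by
      simp only [map_add, toMul_add, map_mul, add_smul, AddMonoidHom.add_apply,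
        AddMonoidHom.comp_apply, pre_mul]
      abel

/-- The property of the tame symbol in degree `n` which makes the next one well defined. -/
def TameProp (n : ℕ) (d : K L (n + 1) →+ K κ n) : Prop :=
  ∀ (a b : Lˣ) (y : K L n),
    (∀ (m : ℕ) (w : K κ m), pre (epsU hϖ L a) (pre (epsU hϖ L b) w) = 0) →
    pre (epsU hϖ L a) (d (pre b y)) =
      ord hϖ L (Additive.ofMul b) • pre (epsU hϖ L a) (spec hϖ L n y)

theorem pre_pre_eps_eq_zero {a b : Lˣ} (h : (a : L) + b = 1) (m : ℕ) (w : K κ m) :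
    pre (epsU hϖ L a) (pre (epsU hϖ L b) w) = 0 := by
  rcases steinberg_cases hϖ h with ⟨_, hv, hr⟩ | ⟨_, hv, hr⟩ | ⟨hva, hvb, hr⟩ | ⟨hv, hr⟩
  · simp [epsU_apply, hv, hr, pre_one]
  · simp [epsU_apply, hv, hr, pre_one]
  · simp only [epsU_apply, hva, hvb, zpow_zero, one_mul, pre_inv, map_neg, neg_neg]
    exact pre_pre_steinberg hr w
  · have : epsU hϖ L b = -epsU hϖ L a := by
      rw [epsU_apply, epsU_apply, hv, hr, inv_neg, mul_neg]
    rw [this, pre_pre_neg]

theorem tamePhi_steinberg {d : K L (n + 1) →+ K κ n} (hd : TameProp hϖ n d) (a : Lˣ)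
    (x : Fin (n + 1) → Lˣ) (j : Fin (n + 1)) (h : (a : L) + (x j : L) = 1) :
    tamePhi hϖ d (Additive.ofMul a) (symbol x) = 0 := by
  suffices H : ∀ (b : Lˣ) (y : K L n), (a : L) + (b : L) = 1 →
      tamePhi hϖ d (Additive.ofMul a) (pre b y) = 0 by
    rw [← neg_eq_zero, ← map_neg]
    by_cases hj : j = 0
    · subst hj
      rw [symbol_cons_tail x, map_neg, H _ _ h, neg_zero]
    · rw [← symbol_comp_swap x hj, symbol_cons_tail (x ∘ Equiv.swap j 0)]
      exact H _ _ (by simpa using h)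
  intro b y hab
  simp only [tamePhi, AddMonoidHom.mk'_apply, toMul_ofMul, AddMonoidHom.add_apply,
    AddMonoidHom.coe_smul, Pi.smul_apply, AddMonoidHom.comp_apply]
  rw [hd a b y fun m w => pre_pre_eps_eq_zero hϖ hab m w, spec_pre, ← pre_zpow, ← pre_zpow,
    ← pre_mul]
  suffices resU hϖ L b ^ ord hϖ L (Additive.ofMul a) *
      epsU hϖ L a ^ ord hϖ L (Additive.ofMul b) = 1 by rw [this, pre_one]
  rcases steinberg_cases hϖ hab with ⟨_, hv, hr⟩ | ⟨_, hv, hr⟩ | ⟨hva, hvb, _⟩ | ⟨hv, hr⟩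
  · simp [hv, hr]
  · simp [epsU_apply, hv, hr]
  · simp [hva, hvb]
  · rw [epsU_apply, hv, hr, mul_zpow, ← zpow_mul, inv_zpow, neg_eq_neg_one_mul,
      mul_zpow, ← mul_assoc, mul_right_comm ((-1) ^ _), ← zpow_add, mul_assoc, mul_inv_cancel,
      mul_one]
    exact Even.neg_one_zpow (Int.even_add.mpr (by simp [Int.even_mul]))

/-- The tame symbol, by recursion on the degree. -/
noncomputable def tameAux (L : Type v) [Field L] [Algebra A L] [IsFractionRing A L] :
    (n : ℕ) → {d : K L (n + 1) →+ K κ n // TameProp hϖ n d}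
  | 0 =>
    ⟨consLift (AddMonoidHom.mk' (fun a => ord hϖ L a • spec hϖ L 0)
        fun a b => by simp only [map_add, add_smul]) fun _ _ j => j.elim0,
      fun a b y _ => by simp [map_zsmul]⟩
  | n + 1 =>
    ⟨consLift (tamePhi hϖ (tameAux L n).1) (tamePhi_steinberg hϖ (tameAux L n).2),
      fun a b y hab => by
        simp [tamePhi, map_add, map_zsmul, hab]⟩

/-- The tame symbol. -/
noncomputable def tame (L : Type v) [Field L] [Algebra A L] [IsFractionRing A L] (n : ℕ) :
    K L (n + 1) →+ K κ n :=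
  (tameAux hϖ L n).1

theorem tame_zero_pre (a : Lˣ) (y : K L 0) :
    tame hϖ L 0 (pre a y) = ord hϖ L (Additive.ofMul a) • spec hϖ L 0 y := by
  rw [tame, tameAux]; simp

theorem tame_succ_pre (a : Lˣ) (y : K L (n + 1)) :
    tame hϖ L (n + 1) (pre a y) =
      ord hϖ L (Additive.ofMul a) • spec hϖ L (n + 1) y +
        pre (epsU hϖ L a) (tame hϖ L n y) := by
  show (tameAux hϖ L (n + 1)).1 _ = _
  rw [tameAux]
  simp [tamePhi, tame]

/-- The subgroup generated by the symbols of units. -/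
noncomputable def unitSub (A : Type u) [CommRing A] (L : Type v) [Field L] [Algebra A L] (n : ℕ) :
    AddSubgroup (K L n) :=
  AddSubgroup.closure {z | ∃ u : Fin n → Aˣ, z = symbol fun i => unitToFrac A L (u i)}

omit [IsDiscreteValuationRing A] [IsDomain A] [IsFractionRing A L] in
theorem symbol_mem_unitSub (u : Fin n → Aˣ) :
    symbol (fun i => unitToFrac A L (u i)) ∈ unitSub A L n :=
  AddSubgroup.subset_closure ⟨u, rfl⟩

omit [IsDiscreteValuationRing A] [IsDomain A] [IsFractionRing A L] in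
theorem pre_mem_unitSub (a : Aˣ) {y : K L n} (hy : y ∈ unitSub A L n) :
    pre (unitToFrac A L a) y ∈ unitSub A L (n + 1) := by
  suffices unitSub A L n ≤ (unitSub A L (n + 1)).comap (pre (unitToFrac A L a)) from this hy
  refine (AddSubgroup.closure_le _).mpr ?_
  rintro _ ⟨u, rfl⟩
  refine AddSubgroup.subset_closure ⟨Fin.cons a u, ?_⟩
  rw [pre_symbol]
  congr 1
  funext i
  refine Fin.cases ?_ (fun j => ?_) i <;> simp

theorem tame_unitSub : ∀ {n : ℕ} (x : K L (n + 1)), x ∈ unitSub A L (n + 1) → tame hϖ L n x = 0 := by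
  intro n
  induction n with
  | zero =>
    intro x hx
    refine (AddSubgroup.closure_le (tame hϖ L 0).ker).mpr ?_ hx
    rintro _ ⟨u, rfl⟩
    rw [SetLike.mem_coe, AddMonoidHom.mem_ker, symbol_cons_tail, tame_zero_pre, ord_unit,
      zero_smul]
  | succ n ih =>
    intro x hx
    refine (AddSubgroup.closure_le (tame hϖ L (n + 1)).ker).mpr ?_ hx
    rintro _ ⟨u, rfl⟩
    rw [SetLike.mem_coe, AddMonoidHom.mem_ker, symbol_cons_tail, tame_succ_pre, ord_unit,
      zero_smul, zero_add, ih, map_zero]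
    exact symbol_mem_unitSub fun i => u i.succ

theorem tame_pre_unitSub (a : Lˣ) : ∀ {n : ℕ} {y : K L n}, y ∈ unitSub A L n →
    tame hϖ L n (pre a y) = ord hϖ L (Additive.ofMul a) • spec hϖ L n y
  | 0, y, _ => tame_zero_pre hϖ a y
  | n + 1, y, hy => by
    rw [tame_succ_pre, tame_unitSub hϖ _ hy, map_zero, add_zero]

theorem isTameSymbol_tame : IsTameSymbol A L n (tame hϖ L n) := by
  intro π hπ u
  obtain ⟨w, hw⟩ := IsDiscreteValuationRing.associated_of_irreducible A hϖ hπ
  have e : unitFrac A L π hπ.ne_zero = unitFrac A L ϖ hϖ.ne_zero ^ (1 : ℤ) * unitToFrac A L w := by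
    refine Units.ext ?_
    simp [unitToFrac_val, ← hw]
  rw [← pre_symbol, e, tame_pre_unitSub hϖ _ (symbol_mem_unitSub u), ord_split, one_smul,
    spec_symbol]
  simp

/-- `K L (n+1)` is generated by unit symbols and `{ϖ}·`(unit symbols). -/
theorem exists_decomp : ∀ {n : ℕ} (x : K L (n + 1)), ∃ s ∈ unitSub A L (n + 1),
    ∃ t ∈ unitSub A L n, x = s + pre (unitFrac A L ϖ hϖ.ne_zero) t := by
  set π := unitFrac A L ϖ hϖ.ne_zero
  have hsplit : ∀ {n : ℕ} (a : Lˣ) (y : K L n), y ∈ unitSub A L n →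
      pre a y ∈ unitSub A L (n + 1) ⊔ (unitSub A L n).map (pre π) := by
    intro n a y hy
    obtain ⟨i, u, rfl⟩ := exists_split hϖ a
    rw [pre_mul, pre_zpow]
    exact AddSubgroup.add_mem _
      (AddSubgroup.mem_sup_right (AddSubgroup.zsmul_mem _ (AddSubgroup.mem_map_of_mem _ hy) _))
      (AddSubgroup.mem_sup_left (pre_mem_unitSub u hy))
  suffices H : ∀ {n : ℕ} (x : K L (n + 1)),
      x ∈ unitSub A L (n + 1) ⊔ (unitSub A L n).map (pre π) by
    intro n x
    obtain ⟨s, hs, _, ⟨t, ht, rfl⟩, h⟩ := AddSubgroup.mem_sup.mp (H x)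
    exact ⟨s, hs, t, ht, h.symm⟩
  intro n
  induction n with
  | zero =>
    intro x
    refine mem_of_forall_pre (fun a y => hsplit a y ?_) x
    refine mem_of_forall_symbol (fun z => ?_) y
    convert symbol_mem_unitSub (A := A) (L := L) (Fin.elim0 (α := Aˣ)) using 2
  | succ n ih =>
    intro x
    refine mem_of_forall_pre (fun a y => ?_) x
    obtain ⟨s, hs, _, ⟨t, ht, rfl⟩, rfl⟩ := AddSubgroup.mem_sup.mp (ih y)
    rw [map_add]
    refine AddSubgroup.add_mem _ (hsplit a s hs) ?_
    obtain ⟨i, u, rfl⟩ := exists_split hϖ a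
    rw [pre_mul, pre_zpow, pre_self, pre_comm (unitToFrac A L u) π]
    refine AddSubgroup.add_mem _ (AddSubgroup.zsmul_mem _ ?_ _) (AddSubgroup.neg_mem _ ?_) <;>
      refine AddSubgroup.mem_sup_right (AddSubgroup.mem_map_of_mem _ ?_)
    · have : (-1 : Lˣ) = unitToFrac A L (-1) := Units.ext (by simp [unitToFrac_val])
      rw [this]
      exact pre_mem_unitSub _ ht
    · exact pre_mem_unitSub _ ht

theorem eq_tame {d : K L (n + 1) →+ K κ n} (hd : IsTameSymbol A L n d) : d = tame hϖ L n := by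
  set π := unitFrac A L ϖ hϖ.ne_zero
  have h1 : ∀ y ∈ unitSub A L n, d (pre π y) = tame hϖ L n (pre π y) := by
    intro y hy
    refine (AddSubgroup.closure_le
      ((d.comp (pre π)).eqLocus ((tame hϖ L n).comp (pre π)))).mpr ?_ hy
    rintro _ ⟨u, rfl⟩
    show d (pre π _) = tame hϖ L n (pre π _)
    rw [pre_symbol, hd ϖ hϖ u, isTameSymbol_tame hϖ ϖ hϖ u]
  have h2 : unitSub A L (n + 1) ≤ d.ker := by
    refine (AddSubgroup.closure_le _).mpr ?_
    rintro _ ⟨u, rfl⟩
    have hirr : Irreducible (ϖ * (u 0 : A)) := (irreducible_mul_units (u 0)).mpr hϖ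
    have e : unitFrac A L (ϖ * (u 0 : A)) hirr.ne_zero = π * unitToFrac A L (u 0) :=
      Units.ext (by simp [π, unitToFrac_val])
    have h := hd _ hirr (Fin.tail u)
    rw [← pre_symbol, e, pre_mul, map_add, pre_symbol, pre_symbol, hd ϖ hϖ (Fin.tail u),
      add_eq_left] at h
    rw [SetLike.mem_coe, AddMonoidHom.mem_ker, ← h]
    congr 2
    funext i
    refine Fin.cases ?_ (fun j => ?_) i <;> simp [Fin.tail]
  refine AddMonoidHom.ext fun x => ?_
  obtain ⟨s, hs, t, ht, rfl⟩ := exists_decomp hϖ x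
  rw [map_add, map_add, h1 t ht, h2 hs, tame_unitSub hϖ s hs]

theorem IsTameSymbol.eq_zero_of_mem {d : K L (n + 1) →+ K κ n} (hd : IsTameSymbol A L n d)
    {x : K L (n + 1)} (hx : x ∈ unitSub A L (n + 1)) : d x = 0 := by
  obtain ⟨π, hπ⟩ := IsDiscreteValuationRing.exists_irreducible A
  rw [eq_tame hπ hd, tame_unitSub hπ x hx]

/-- A symbol whose entries are all of order zero has no residue. -/
theorem IsTameSymbol.eq_zero_of_units {d : K L (n + 1) →+ K κ n} (hd : IsTameSymbol A L n d)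
    (x : Fin (n + 1) → Lˣ) (hx : ∀ i, ∃ u : Aˣ, x i = unitToFrac A L u) : d (symbol x) = 0 := by
  choose u hu using hx
  obtain rfl : x = fun i => unitToFrac A L (u i) := funext hu
  exact IsTameSymbol.eq_zero_of_mem hd (symbol_mem_unitSub u)

end Groth.Agent.MilKLib
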